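import Cfsg.Agent.Lib.Invol.SECriterion.EqType.SEq.Count
import Cfsg.Agent.Lib.Invol.SECriterion.SignKill
import Mathlib.GroupTheory.Nilpotent

/-!
# The strong embedding criterion, equal type with `s = q`: the contradiction

In a Sylow two-subgroup `S` of `M` the elements moving the bad involution `x` inside its coset of `E` form a
normal subgroup containing all bad involutions; the differences of the bad involutions form a normal subgroup
`V`, every square lies in `V`, so a subgroup of index two contains no bad involution.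
-/

set_option autoImplicit false
set_option linter.style.haveILetI false

namespace CfsgLib.SECrit.Eq.SEqData

open CfsgLib.Invol Small

variable {G : Type*} [Group G] [Finite G] {M : Subgroup G} {z : G} (h : SEqData M z)
include h

/-- A fixed element of the group at the point commutes with everything centralizing that group. -/
theorem grp_comm {g : G} (hg : ∀ e ∈ h.E, Commute g e) {e : G} (he : e ∈ h.E) : g * e * g⁻¹ = e := by
  rw [(hg e he).eq, mul_inv_cancel_right]

/-- The elements of `M` centralizing `E` and fixing the coset of `x`. -/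
def block (x : G) : Subgroup G where
  carrier := {g | g • base M = base M ∧ (∀ e ∈ h.E, Commute g e) ∧ ∃ e ∈ h.E, g * x * g⁻¹ = e * x}
  one_mem' := ⟨one_smul _ _, fun e _ => Commute.one_left e, 1, one_mem _, by group⟩
  mul_mem' := by
    rintro a b ⟨hap, haE, e, he, hae⟩ ⟨hbp, hbE, f, hf, hbf⟩
    refine ⟨by rw [mul_smul, hbp, hap], fun d hd => (haE d hd).mul_left (hbE d hd), f * e, mul_mem hf he, ?_⟩
    rw [show a * b * x * (a * b)⁻¹ = a * (b * x * b⁻¹) * a⁻¹ by group, hbf,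
      show a * (f * x) * a⁻¹ = (a * f * a⁻¹) * (a * x * a⁻¹) by group, h.grp_comm haE hf, hae, mul_assoc]
  inv_mem' := by
    rintro a ⟨hap, haE, e, he, hae⟩
    refine ⟨inv_smul_eq_iff.2 hap.symm, fun d hd => (haE d hd).inv_left, e, he, ?_⟩
    have h1 : a * (e * x) * a⁻¹ = x := by
      rw [show a * (e * x) * a⁻¹ = (a * e * a⁻¹) * (a * x * a⁻¹) by group, h.grp_comm haE he, hae,
        ← mul_assoc, h.eq.res.grp_sq he, one_mul]
    calc a⁻¹ * x * a⁻¹⁻¹ = a⁻¹ * (a * (e * x) * a⁻¹) * a := by rw [h1, inv_inv]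
      _ = e * x := by group

variable (S : Sylow 2 M) {x : G} (hx : Bad z x) (hxS : x ∈ SG S)

theorem bad_translate {y : G} (hy : Bad z y) (hyp : y • base M = base M) {e : G} (he : e ∈ h.E) :
    Bad z (e * y) := by
  rcases (show e = 1 ∨ _ from he) with rfl | ⟨hez, -⟩
  · rwa [one_mul]
  · rw [← (h.eq.commute_grp hy hyp he).eq]
    exact h.eq.res.bad_mul hy hez (h.eq.commute_grp hy hyp he)

theorem E_le_block : ∀ e ∈ h.E, ∀ {x : G}, Bad z x → x • base M = base M → e ∈ h.block x := by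
  intro e he x hx hxp
  refine ⟨h.eq.res.grp_smul he, fun d hd => h.eq.res.grp_commute he hd, 1, one_mem _, ?_⟩
  rw [(h.eq.commute_grp hx hxp he).symm.eq, mul_inv_cancel_right, one_mul]

include hx hxS

theorem hxp : x • base M = base M := SG_fix S hxS

/-- Every bad involution of `S` is conjugate to `x` in `S`. -/
theorem exists_conj_S {y : G} (hy : Bad z y) (hyS : y ∈ SG S) : ∃ s ∈ SG S, s * x * s⁻¹ = y := by
  letI : MulAction (SG S) (badS z S) :=
    { smul := fun g y => ⟨(g : G) * y.1 * (g : G)⁻¹, y.2.1.conj g,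
        mul_mem (mul_mem g.2 y.2.2) (inv_mem g.2)⟩
      one_smul := fun y => Subtype.ext (show ((1 : SG S) : G) * y.1 * ((1 : SG S) : G)⁻¹ = y.1 by simp)
      mul_smul := fun g k y => Subtype.ext (show ((g * k : SG S) : G) * y.1 * ((g * k : SG S) : G)⁻¹ =
        (g : G) * ((k : G) * y.1 * (k : G)⁻¹) * (g : G)⁻¹ by simp [mul_assoc]) }
  set x' : badS z S := ⟨x, hx, hxS⟩
  have hst : Nat.card (MulAction.stabilizer (SG S) x') = 2 * Nat.card h.E := by
    rw [← h.card_cent S hx hxS]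
    exact Nat.card_congr
      { toFun := fun g => ⟨(g.1 : G), g.1.2, mul_inv_eq_iff_eq_mul.1 (congrArg Subtype.val g.2)⟩
        invFun := fun g => ⟨⟨g.1, g.2.1⟩, Subtype.ext (show g.1 * x * g.1⁻¹ = x by
          rw [g.2.2.eq, mul_inv_cancel_right])⟩
        left_inv := fun g => rfl
        right_inv := fun g => rfl }
  have hcard := MulAction.index_stabilizer (SG S) x'
  have h1 := (MulAction.stabilizer (SG S) x').card_mul_index
  obtain ⟨hS2, hbad⟩ := h.card_SG_eq S hx hxS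
  rw [hst, hcard, hS2] at h1
  have h2 : (MulAction.orbit (SG S) x').ncard = Nat.card (badS z S) := by
    rw [hbad]
    exact Nat.eq_of_mul_eq_mul_left (Nat.mul_pos two_pos Nat.card_pos : 0 < 2 * Nat.card h.E)
      (by rw [h1]; ring)
  have h3 : MulAction.orbit (SG S) x' = Set.univ := by
    refine Set.eq_of_subset_of_ncard_le (Set.subset_univ _) ?_ (Set.toFinite _)
    rw [Set.ncard_univ, h2]
  obtain ⟨g, hg⟩ : (⟨y, hy, hyS⟩ : badS z S) ∈ MulAction.orbit (SG S) x' := h3 ▸ Set.mem_univ _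
  exact ⟨g, g.2, congrArg Subtype.val hg⟩

/-- An element centralizing `E` and moving `x` into `S` lies in `S`. -/
theorem mem_SG_of_conj {g : G} (hgp : g • base M = base M) (hgE : ∀ e ∈ h.E, Commute g e)
    (hgx : g * x * g⁻¹ ∈ SG S) : g ∈ SG S := by
  obtain ⟨s, hs, hsx⟩ := h.exists_conj_S S hx hxS (hx.conj g) hgx
  have hc : Commute (s⁻¹ * g) x := by
    refine mul_inv_eq_iff_eq_mul.1 ?_
    rw [show s⁻¹ * g * x * (s⁻¹ * g)⁻¹ = s⁻¹ * (g * x * g⁻¹) * s by group, ← hsx]
    group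
  obtain ⟨e, he, hh⟩ := h.eq.mem_grp_or_mul h.hfix h.klein hx (h.hxp S hx hxS) (g := s⁻¹ * g)
    (by rw [mul_smul, hgp, inv_smul_eq_iff, SG_fix S hs]) hc
    (fun e he => ((h.commute_E S hs he).inv_left).mul_left (hgE e he))
  have : s⁻¹ * g ∈ SG S := by
    rcases hh with hh | hh <;> rw [hh]
    exacts [h.E_le S he, mul_mem (h.E_le S he) hxS]
  simpa using mul_mem hs this

theorem block_le : h.block x ≤ SG S := by
  rintro g ⟨hgp, hgE, e, he, hge⟩
  exact h.mem_SG_of_conj S hx hxS hgp hgE (hge ▸ mul_mem (h.E_le S he) hxS)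

theorem x_mem_block : x ∈ h.block x :=
  ⟨h.hxp S hx hxS, fun _ he => h.eq.commute_grp hx (h.hxp S hx hxS) he, 1, one_mem _, by
    rw [mul_inv_cancel_right, one_mul]⟩

theorem sq_mem {g : G} (hg : g ∈ h.block x) : g * g ∈ h.E := by
  obtain ⟨hgp, hgE, e, he, hge⟩ := id hg
  have hgS := h.block_le S hx hxS hg
  have hc : Commute (g * g) x := by
    refine mul_inv_eq_iff_eq_mul.1 ?_
    rw [show g * g * x * (g * g)⁻¹ = g * (g * x * g⁻¹) * g⁻¹ by group, hge,
      show g * (e * x) * g⁻¹ = (g * e * g⁻¹) * (g * x * g⁻¹) by group, h.grp_comm hgE he, hge, ← mul_assoc,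
      h.eq.res.grp_sq he, one_mul]
  obtain ⟨f, hf, hh⟩ := h.mem_or_mul S hx (h.hxp S hx hxS) (mul_mem hgS hgS) hc
  rcases hh with hh | hh
  · rw [hh]; exact hf
  exfalso
  have hy := h.bad_translate hx (h.hxp S hx hxS) hf
  rw [← hh] at hy
  have hyp : (g * g) • base M = base M := SG_fix S (mul_mem hgS hgS)
  obtain ⟨k, hk, hk'⟩ := h.mem_or_mul S hy hyp hgS ((Commute.refl g).mul_right (Commute.refl g))
  refine invol_ne_one hy.invol ?_
  rcases hk' with hk' | hk'
  · calc g * g = k * k := by rw [hk']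
      _ = 1 := h.eq.res.grp_sq hk
  · calc g * g = (k * (g * g)) * (k * (g * g)) := by rw [← hk']
      _ = (k * k) * ((g * g) * (g * g)) := (h.eq.commute_grp hy hyp hk).mul_mul_mul_comm _ _
      _ = 1 := by rw [h.eq.res.grp_sq hk, invol_mul_self hy.invol, one_mul]

theorem conj_x {g : G} (hg : g ∈ h.block x) : ∃ e ∈ h.E, x * g * x = e * g := by
  obtain ⟨-, hgE, e, he, hge⟩ := hg
  refine ⟨e, he, ?_⟩
  have h1 : g * x = e * x * g := mul_inv_eq_iff_eq_mul.1 hge
  calc x * g * x = x * (g * x) := mul_assoc _ _ _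
    _ = x * (e * x * g) := by rw [h1]
    _ = (x * e) * (x * g) := by group
    _ = (e * x) * (x * g) := by rw [(h.eq.commute_grp hx (h.hxp S hx hxS) he).eq]
    _ = e * g := by rw [mul_assoc e x, ← mul_assoc x x, invol_mul_self hx.invol, one_mul]

omit hxS in
/-- A conjugate moving the group at the point transitively. -/
theorem exists_torus {e e' : G} (hxp : x • base M = base M) (he : e ∈ h.E) (he1 : e ≠ 1) (he' : e' ∈ h.E)
    (he1' : e' ≠ 1) : ∃ c : G, c • base M = base M ∧ Commute c x ∧ c * e * c⁻¹ = e' := by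
  obtain ⟨a, hap, ha⟩ := h.eq.res.bad_two_fix hx hxp
  obtain ⟨f, hf, hfa, hxf⟩ := h.eq.res.crit.exists_commuting_invol hx.invol ha
  obtain ⟨hez, hep⟩ := he.resolve_left he1
  obtain ⟨hez', hep'⟩ := he'.resolve_left he1'
  obtain ⟨g, hg, hgf⟩ := h.eq.res.crit.exists_midpoint hez hf hep hfa hap.symm
  obtain ⟨k, hk, hkf⟩ := h.eq.res.crit.exists_midpoint hez' hf hep' hfa hap.symm
  have hgp := h.eq.res.crit.smul_eq_of_conj hf hgf hep hfa
  have hkp := h.eq.res.crit.smul_eq_of_conj hf hkf hep' hfa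
  have hko := h.eq.res.crit.orderOf_conj hk
  have hcg := h.eq.res.crit.commute_midpoint hez hf hg hep hfa hap.symm hgf (h.eq.commute_grp hx hxp he) hxf
  have hck := h.eq.res.crit.commute_midpoint hez' hf hk hep' hfa hap.symm hkf (h.eq.commute_grp hx hxp he') hxf
  refine ⟨k * g, ?_, (hck.mul_right hcg).symm, ?_⟩
  · rw [mul_smul, hgp, ← hkp, smul_smul, invol_mul_self hko, one_smul]
  · rw [show k * g * e * (k * g)⁻¹ = k * (g * e * g⁻¹) * k⁻¹ by group, hgf, ← hkf]
    calc k * (k * e' * k⁻¹) * k⁻¹ = (k * k) * e' * (k * k)⁻¹ := by group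
      _ = e' := by rw [invol_mul_self hko, inv_one, one_mul, mul_one]

omit hxS in
theorem conj_block {c g : G} (hxp : x • base M = base M) (hcp : c • base M = base M) (hcx : Commute c x)
    (hg : g ∈ h.block x) : c * g * c⁻¹ ∈ h.block x := by
  obtain ⟨hgp, hgE, e, he, hge⟩ := hg
  have hci : c⁻¹ • base M = base M := inv_smul_eq_iff.2 hcp.symm
  refine ⟨by rw [mul_smul, mul_smul, hci, hgp, hcp], fun d hd => ?_, c * e * c⁻¹, h.eq.res.grp_conj hcp he, ?_⟩
  · have hd' : c⁻¹ * d * c⁻¹⁻¹ ∈ h.E := h.eq.res.grp_conj hci hd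
    have := Commute.map (hgE _ hd') (MulAut.conj c).toMonoidHom
    simpa [mul_assoc] using this
  · have hci' : c⁻¹ * x * c = x := by rw [mul_assoc, ← hcx.eq, inv_mul_cancel_left]
    calc c * g * c⁻¹ * x * (c * g * c⁻¹)⁻¹ = c * (g * (c⁻¹ * x * c) * g⁻¹) * c⁻¹ := by group
      _ = c * (e * x) * c⁻¹ := by rw [hci', hge]
      _ = (c * e * c⁻¹) * (c * x * c⁻¹) := by group
      _ = _ := by rw [hcx.eq, mul_inv_cancel_right]

/-- The translation part. -/
theorem mem_of_conj_eq {g g' : G} (hg : g ∈ h.block x) (hg' : g' ∈ h.block x)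
    (heq : g * x * g⁻¹ = g' * x * g'⁻¹) : ∃ f ∈ h.E, g = g' * f ∨ g = g' * (f * x) := by
  have hc : Commute (g'⁻¹ * g) x := by
    refine mul_inv_eq_iff_eq_mul.1 ?_
    rw [show g'⁻¹ * g * x * (g'⁻¹ * g)⁻¹ = g'⁻¹ * (g * x * g⁻¹) * g' by group, heq]
    group
  obtain ⟨f, hf, hh⟩ := h.mem_or_mul S hx (h.hxp S hx hxS)
    (mul_mem (inv_mem (h.block_le S hx hxS hg')) (h.block_le S hx hxS hg)) hc
  exact ⟨f, hf, hh.imp inv_mul_eq_iff_eq_mul.1 inv_mul_eq_iff_eq_mul.1⟩

theorem commute_of_bad_mul {y : G} (hy : Bad z y) (hyp : y • base M = base M) {f : G} (hf : f ∈ h.E)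
    (hxy : Bad z (f * (x * y))) : Commute x y := by
  have h1 : Bad z (x * y) := by
    have := h.bad_translate hxy (by rw [mul_smul, mul_smul, hyp, h.hxp S hx hxS, h.eq.res.grp_smul hf]) hf
    rwa [← mul_assoc, h.eq.res.grp_sq hf, one_mul] at this
  have h2 := invol_mul_self h1.invol
  calc x * y = (x * y)⁻¹ := (inv_eq_of_mul_eq_one_left h2).symm
    _ = y * x := by rw [mul_inv_rev, invol_inv hx.invol, invol_inv hy.invol]

/-- A bad involution in the block outside the coset of `x` really moves `x`. -/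
theorem eq_mul_of_commute {y : G} (hy : Bad z y) (hyS : y ∈ SG S) (hc : Commute y x) :
    ∃ f ∈ h.E, y = f * x := by
  obtain ⟨f, hf, rfl | rfl⟩ := h.mem_or_mul S hx (h.hxp S hx hxS) hyS hc
  · exact absurd hy (fun hb => (show y = 1 ∨ _ from hf).elim (invol_ne_one hb.invol) fun h1 => hb.not_conj h1.1)
  · exact ⟨f, hf, rfl⟩

/-- Every translation comes from a bad involution in the block. -/
theorem exists_bad_block {e : G} (he : e ∈ h.E) :
    ∃ y : G, Bad z y ∧ y ∈ h.block x ∧ y * x * y⁻¹ = e * x := by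
  haveI : Fact (Nat.Prime 2) := ⟨Nat.prime_two⟩
  by_cases he1 : e = 1
  · exact ⟨x, hx, h.x_mem_block S hx hxS, by rw [mul_inv_cancel_right, he1, one_mul]⟩
  obtain ⟨hS2, hbad⟩ := h.card_SG_eq S hx hxS
  -- some bad involution in the block moves `x`
  obtain ⟨y, hy, hyb, hyx⟩ : ∃ y : G, Bad z y ∧ y ∈ h.block x ∧ y * x * y⁻¹ ≠ x := by
    by_cases hH : SG S ≤ h.block x
    · by_contra hno
      push Not at hno
      have hsurj : ∀ y : badS z S, ∃ f : h.E, y.1 = f * x := fun y => by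
        obtain ⟨f, hf, hf'⟩ := h.eq_mul_of_commute S hx hxS y.2.1 y.2.2
          (mul_inv_eq_iff_eq_mul.1 (hno y.1 y.2.1 (hH y.2.2)))
        exact ⟨⟨f, hf⟩, hf'⟩
      choose f hf using hsurj
      have hle := Nat.card_le_card_of_injective f fun a b hab => Subtype.ext (by rw [hf a, hf b, hab])
      have h2 := h.eq.two_le
      rw [hbad, h.card_E] at hle
      nlinarith
    haveI : Group.IsNilpotent (SG S) := (isPGroup_SG S).isNilpotent
    have hlt : (h.block x).subgroupOf (SG S) < ⊤ :=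
      lt_top_iff_ne_top.2 fun e1 => hH (Subgroup.subgroupOf_eq_top.1 e1)
    obtain ⟨g, hgN, hgH⟩ := SetLike.exists_of_lt (normalizerCondition_of_isNilpotent _ hlt)
    have hgH' : (g : G) ∉ h.block x := fun hh => hgH (Subgroup.mem_subgroupOf.2 hh)
    have hyb : (g : G) * x * (g : G)⁻¹ ∈ h.block x := by
      have := (Subgroup.mem_normalizer_iff.1 hgN ⟨x, hxS⟩).1 (Subgroup.mem_subgroupOf.2 (h.x_mem_block S hx hxS))
      exact Subgroup.mem_subgroupOf.1 this
    refine ⟨_, hx.conj (g : G), hyb, fun hh => hgH' ?_⟩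
    obtain ⟨f, hf, hf'⟩ := h.eq_mul_of_commute S hx hxS (hx.conj (g : G))
      (h.block_le S hx hxS hyb) (mul_inv_eq_iff_eq_mul.1 hh)
    exact ⟨SG_fix S g.2, fun d hd => h.commute_E S g.2 hd, f, hf, hf'⟩
  obtain ⟨-, -, e₀, he₀, hye⟩ := id hyb
  have he₀1 : e₀ ≠ 1 := fun hh => hyx (by rw [hye, hh, one_mul])
  obtain ⟨c, hcp, hcx, hce⟩ := h.exists_torus hx (h.hxp S hx hxS) he₀ he₀1 he he1
  refine ⟨c * y * c⁻¹, hy.conj c, h.conj_block hx (h.hxp S hx hxS) hcp hcx hyb, ?_⟩
  have hci' : c⁻¹ * x * c = x := by rw [mul_assoc, ← hcx.eq, inv_mul_cancel_left]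
  calc c * y * c⁻¹ * x * (c * y * c⁻¹)⁻¹ = c * (y * (c⁻¹ * x * c) * y⁻¹) * c⁻¹ := by group
    _ = c * (e₀ * x) * c⁻¹ := by rw [hci', hye]
    _ = (c * e₀ * c⁻¹) * (c * x * c⁻¹) := by group
    _ = _ := by rw [hce, hcx.eq, mul_inv_cancel_right]

/-- **All bad involutions of `S` lie in the block.** -/
theorem bad_mem_block {y : G} (hy : Bad z y) (hyS : y ∈ SG S) : y ∈ h.block x := by
  obtain ⟨-, hbad⟩ := h.card_SG_eq S hx hxS
  choose w hw hwb hwx using fun e : h.E => h.exists_bad_block S hx hxS e.2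
  have hwS : ∀ e, w e ∈ SG S := fun e => h.block_le S hx hxS (hwb e)
  let F : h.E × h.E → badS z S := fun p => ⟨(p.1 : G) * w p.2, h.bad_translate (hw p.2) (SG_fix S (hwS p.2)) p.1.2,
    mul_mem (h.E_le S p.1.2) (hwS p.2)⟩
  have hFx : ∀ p, (F p).1 * x * (F p).1⁻¹ = p.2 * x := fun p => by
    show (p.1 : G) * w p.2 * x * ((p.1 : G) * w p.2)⁻¹ = p.2 * x
    rw [show (p.1 : G) * w p.2 * x * ((p.1 : G) * w p.2)⁻¹ = p.1 * (w p.2 * x * (w p.2)⁻¹) * (p.1 : G)⁻¹ by group,
      hwx, ((h.eq.res.grp_commute p.1.2 p.2.2).mul_right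
        (h.eq.commute_grp hx (h.hxp S hx hxS) p.1.2).symm).eq, mul_inv_cancel_right]
  have hinj : Function.Injective F := by
    intro p p' hpp
    have h1 := hFx p
    rw [hpp, hFx p'] at h1
    have h2 : p.2 = p'.2 := Subtype.ext (mul_right_cancel h1).symm
    have h3 : (p.1 : G) * w p.2 = p'.1 * w p'.2 := congrArg Subtype.val hpp
    rw [h2] at h3
    exact Prod.ext (Subtype.ext (mul_right_cancel h3)) h2
  have hbij : Function.Bijective F := (Nat.bijective_iff_injective_and_card F).2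
    ⟨hinj, by rw [Nat.card_prod, hbad, pow_two]⟩
  obtain ⟨p, hp⟩ := hbij.2 ⟨y, hy, hyS⟩
  rw [show y = (p.1 : G) * w p.2 from (congrArg Subtype.val hp).symm]
  exact mul_mem (h.E_le_block _ p.1.2 hx (h.hxp S hx hxS)) (hwb p.2)

/-- The differences of the bad involutions. -/
theorem diff_mul {a b : G} (ha : a ∈ SG S) (hab : Bad z (x * a)) (hb : b ∈ SG S) (hbb : Bad z (x * b)) :
    Bad z (x * (a * b)) := by
  have hxp := h.hxp S hx hxS
  have h1 := h.bad_mem_block S hx hxS hab (mul_mem hxS ha)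
  have h2 := h.bad_mem_block S hx hxS hbb (mul_mem hxS hb)
  have haB : a ∈ h.block x := by
    have := mul_mem (inv_mem (h.x_mem_block S hx hxS)) h1
    rwa [inv_mul_cancel_left] at this
  have hbB : b ∈ h.block x := by
    have := mul_mem (inv_mem (h.x_mem_block S hx hxS)) h2
    rwa [inv_mul_cancel_left] at this
  have huB : x * (a * b) ∈ h.block x := mul_mem (h.x_mem_block S hx hxS) (mul_mem haB hbB)
  obtain ⟨hup, -, e, he, hue⟩ := id huB
  obtain ⟨y, hy, hyB, hye⟩ := h.exists_bad_block S hx hxS he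
  obtain ⟨f, hf, hh⟩ := h.mem_of_conj_eq S hx hxS huB hyB (hue.trans hye.symm)
  have hyp : y • base M = base M := SG_fix S (h.block_le S hx hxS hyB)
  have hyf : Commute y f := h.eq.commute_grp hy hyp hf
  rcases hh with hh | hh
  · rw [hh, hyf.eq]; exact h.bad_translate hy hyp hf
  exfalso
  -- then the two bad involutions `x a` and `x b` have a bad product
  obtain ⟨e₁, he₁, hye₁⟩ := h.conj_x S hx hxS hyB
  obtain ⟨e₂, he₂, hxa⟩ := h.conj_x S hx hxS h1
  have hprod : x * a * (x * b) = (e₂ * f * e₁) * y := by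
    calc x * a * (x * b) = e₂ * (e₂ * (x * a)) * (x * b) := by
          rw [← mul_assoc e₂ e₂, h.eq.res.grp_sq he₂, one_mul]
      _ = e₂ * (x * (x * a) * x) * (x * b) := by rw [hxa]
      _ = e₂ * (x * (x * a)) * ((x * x) * b) := by group
      _ = e₂ * (x * (x * (a * b))) := by rw [invol_mul_self hx.invol]; group
      _ = e₂ * (x * (y * (f * x))) := by rw [hh]
      _ = e₂ * (x * (f * y) * x) := by rw [← mul_assoc y f, hyf.eq]; group
      _ = e₂ * ((x * f) * (y * x)) := by group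
      _ = e₂ * ((f * x) * (y * x)) := by rw [(h.eq.commute_grp hx hxp hf).eq]
      _ = e₂ * f * (x * y * x) := by group
      _ = (e₂ * f * e₁) * y := by rw [hye₁]; group
  have hbad := h.bad_translate hy hyp (mul_mem (mul_mem he₂ hf) he₁)
  rw [← hprod] at hbad
  by_cases hne : x * a = x * b
  · rw [hne, invol_mul_self hbb.invol] at hbad
    exact invol_ne_one hbad.invol rfl
  · have hcm : Commute (x * a) (x * b) := by
      have h3 := invol_mul_self hbad.invol
      calc x * a * (x * b) = (x * a * (x * b))⁻¹ := (inv_eq_of_mul_eq_one_left h3).symm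
        _ = x * b * (x * a) := by rw [mul_inv_rev, invol_inv hab.invol, invol_inv hbb.invol]
    exact hbad.not_conj (h.eq.isConj_mul_of_commute h.hfix h.klein hab hbb hcm hne)

/-- The group of differences. -/
def diff : Subgroup G where
  carrier := {g | g ∈ SG S ∧ Bad z (x * g)}
  one_mem' := ⟨one_mem _, by rwa [mul_one]⟩
  mul_mem' := fun {a b} ha hb => ⟨mul_mem ha.1 hb.1, h.diff_mul S hx hxS ha.1 ha.2 hb.1 hb.2⟩
  inv_mem' := by
    rintro g ⟨hg, hgb⟩
    have hxp := h.hxp S hx hxS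
    refine ⟨inv_mem hg, ?_⟩
    have hgB : g ∈ h.block x := by
      have := mul_mem (inv_mem (h.x_mem_block S hx hxS)) (h.bad_mem_block S hx hxS hgb (mul_mem hxS hg))
      rwa [inv_mul_cancel_left] at this
    have he := h.sq_mem S hx hxS hgB
    have hge : g⁻¹ = g * (g * g)⁻¹ := by group
    rw [hge]
    refine h.diff_mul S hx hxS hg hgb (inv_mem (mul_mem hg hg)) ?_
    rw [(h.eq.commute_grp hx hxp (inv_mem he)).eq]
    exact h.bad_translate hx hxp (inv_mem he)

theorem mem_or_mul_diff {g : G} (hg : g ∈ h.block x) : g ∈ h.diff S hx hxS ∨ Bad z g := by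
  have hxp := h.hxp S hx hxS
  obtain ⟨hgp, -, e, he, hge⟩ := id hg
  obtain ⟨y, hy, hyB, hye⟩ := h.exists_bad_block S hx hxS he
  obtain ⟨f, hf, hh⟩ := h.mem_of_conj_eq S hx hxS hg hyB (hge.trans hye.symm)
  have hyp : y • base M = base M := SG_fix S (h.block_le S hx hxS hyB)
  have hyf : Commute y f := h.eq.commute_grp hy hyp hf
  rcases hh with hh | hh
  · exact Or.inr (hh ▸ hyf.eq ▸ h.bad_translate hy hyp hf)
  refine Or.inl ⟨h.block_le S hx hxS hg, ?_⟩
  obtain ⟨e₁, he₁, hye₁⟩ := h.conj_x S hx hxS hyB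
  have : x * g = f * e₁ * y := by
    calc x * g = x * ((y * f) * x) := by rw [hh]; group
      _ = x * ((f * y) * x) := by rw [hyf.eq]
      _ = (x * f) * (y * x) := by group
      _ = (f * x) * (y * x) := by rw [(h.eq.commute_grp hx hxp hf).eq]
      _ = f * (x * y * x) := by group
      _ = f * e₁ * y := by rw [hye₁, mul_assoc]
  rw [this]
  exact h.bad_translate hy hyp (mul_mem hf he₁)

/-- Elements of `S` moving `x` to conjugates with the same translation differ by the block. -/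
theorem inv_mul_mem_block {g g' : G} (hg : g ∈ SG S) (hg' : g' ∈ SG S) {e : G} (he : e ∈ h.E)
    (hge : (g * x * g⁻¹) * x * (g * x * g⁻¹)⁻¹ = e * x)
    (hge' : (g' * x * g'⁻¹) * x * (g' * x * g'⁻¹)⁻¹ = e * x) : g'⁻¹ * g ∈ h.block x := by
  have hxp := h.hxp S hx hxS
  have hy : Bad z (g * x * g⁻¹) := hx.conj g
  have hy' : Bad z (g' * x * g'⁻¹) := hx.conj g'
  have hyS : g * x * g⁻¹ ∈ SG S := mul_mem (mul_mem hg hxS) (inv_mem hg)
  have hyS' : g' * x * g'⁻¹ ∈ SG S := mul_mem (mul_mem hg' hxS) (inv_mem hg')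
  set y := g * x * g⁻¹ with hy_def
  set y' := g' * x * g'⁻¹ with hy'_def
  obtain ⟨f, hf, hh⟩ := h.mem_of_conj_eq S hx hxS (h.bad_mem_block S hx hxS hy hyS)
    (h.bad_mem_block S hx hxS hy' hyS') (hge.trans hge'.symm)
  have key : ∀ f' ∈ h.E, y = f' * y' → g'⁻¹ * g ∈ h.block x := by
    intro f' hf' hyy
    refine ⟨by rw [mul_smul, SG_fix S hg, inv_smul_eq_iff, SG_fix S hg'],
      fun d hd => (h.commute_E S hg' hd).inv_left.mul_left (h.commute_E S hg hd), f', hf', ?_⟩
    calc g'⁻¹ * g * x * (g'⁻¹ * g)⁻¹ = g'⁻¹ * y * g' := by rw [hy_def]; group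
      _ = (g'⁻¹ * f' * g') * (g'⁻¹ * y' * g') := by rw [hyy]; group
      _ = f' * x := by
        rw [show g'⁻¹ * f' * g' = f' by rw [mul_assoc, ← (h.commute_E S hg' hf').eq, inv_mul_cancel_left],
          hy'_def]
        group
  have hyp' : y' • base M = base M := SG_fix S hyS'
  have hc : Commute y' f := h.eq.commute_grp hy' hyp' hf
  rcases hh with hh | hh
  · exact key f hf (hh.trans hc.eq)
  -- `y = y' f x` forces `x`, `y'` to commute
  have hbad : Bad z (f * (y' * x)) := by rw [← mul_assoc, ← hc.eq, mul_assoc]; exact hh ▸ hy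
  have h4 : Commute y' x := by
    have h5 : Bad z (y' * x) := by
      have := h.bad_translate hbad
        (by rw [mul_smul, mul_smul, hxp, hyp', h.eq.res.grp_smul hf]) hf
      rwa [← mul_assoc, h.eq.res.grp_sq hf, one_mul] at this
    have h6 := invol_mul_self h5.invol
    calc y' * x = (y' * x)⁻¹ := (inv_eq_of_mul_eq_one_left h6).symm
      _ = x * y' := by rw [mul_inv_rev, invol_inv hx.invol, invol_inv hy'.invol]
  obtain ⟨f₂, hf₂, hyf⟩ := h.eq_mul_of_commute S hx hxS hy' hyS' h4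
  exfalso
  have hyE : y ∈ h.E := by
    rw [hh, hyf, (h.eq.commute_grp hx hxp hf).symm.eq]
    rw [show f₂ * x * (x * f) = f₂ * (x * x) * f by group, invol_mul_self hx.invol, mul_one]
    exact mul_mem hf₂ hf
  rcases (show y = 1 ∨ _ from hyE) with h7 | ⟨h7, -⟩
  exacts [invol_ne_one hy.invol h7, hy.not_conj h7]

/-- **Every square of `S` is a difference.** -/
theorem sq_mem_diff {g : G} (hg : g ∈ SG S) : g * g ∈ h.diff S hx hxS := by
  have hxp := h.hxp S hx hxS
  -- squares lie in the block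
  have hsq : ∀ g ∈ SG S, g * g ∈ h.block x := by
    intro g hg
    by_cases hgB : g ∈ h.block x
    · exact mul_mem hgB hgB
    -- an element outside whose square is inside
    obtain ⟨g₀, hg₀, hg₀B, hg₀2⟩ : ∃ g₀ ∈ SG S, g₀ ∉ h.block x ∧ g₀ * g₀ ∈ h.block x := by
      obtain ⟨k, hk⟩ := isPGroup_SG S ⟨g, hg⟩
      have hk' : g ^ 2 ^ k ∈ h.block x := by
        rw [show g ^ 2 ^ k = 1 from congrArg Subtype.val hk]; exact one_mem _
      clear hk
      induction k with
      | zero => exact absurd (by simpa using hk') hgB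
      | succ k ih =>
        by_cases h1 : g ^ 2 ^ k ∈ h.block x
        · exact ih h1
        · exact ⟨_, pow_mem hg _, h1, by rwa [← pow_two, ← pow_mul, ← pow_succ]⟩
    have hdata : ∀ k ∈ SG S, k ∉ h.block x →
        ∃ e ∈ h.E, e ≠ 1 ∧ (k * x * k⁻¹) * x * (k * x * k⁻¹)⁻¹ = e * x := by
      intro k hk hkB
      have hyS : k * x * k⁻¹ ∈ SG S := mul_mem (mul_mem hk hxS) (inv_mem hk)
      obtain ⟨-, -, e, he, hee⟩ := h.bad_mem_block S hx hxS (hx.conj k) hyS
      refine ⟨e, he, fun he1 => hkB ?_, hee⟩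
      rw [he1, one_mul] at hee
      obtain ⟨f, hf, hf'⟩ := h.eq_mul_of_commute S hx hxS (hx.conj k) hyS (mul_inv_eq_iff_eq_mul.1 hee)
      exact ⟨SG_fix S hk, fun d hd => h.commute_E S hk hd, f, hf, hf'⟩
    obtain ⟨e, he, he1, hge⟩ := hdata g hg hgB
    obtain ⟨e₀, he₀, he₀1, hge₀⟩ := hdata g₀ hg₀ hg₀B
    obtain ⟨c, hcp, hcx, hce⟩ := h.exists_torus hx hxp he₀ he₀1 he he1
    have hci : c⁻¹ • base M = base M := inv_smul_eq_iff.2 hcp.symm
    have hci' : c⁻¹ * x * c = x := by rw [mul_assoc, ← hcx.eq, inv_mul_cancel_left]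
    have hconj : (c * g₀ * c⁻¹) * x * (c * g₀ * c⁻¹)⁻¹ = c * (g₀ * x * g₀⁻¹) * c⁻¹ := by
      calc (c * g₀ * c⁻¹) * x * (c * g₀ * c⁻¹)⁻¹ = c * (g₀ * (c⁻¹ * x * c) * g₀⁻¹) * c⁻¹ := by group
        _ = _ := by rw [hci']
    have hg₁ : c * g₀ * c⁻¹ ∈ SG S := by
      refine h.mem_SG_of_conj S hx hxS (by rw [mul_smul, mul_smul, hci, SG_fix S hg₀, hcp]) (fun d hd => ?_) ?_
      · have hd' : c⁻¹ * d * c⁻¹⁻¹ ∈ h.E := h.eq.res.grp_conj hci hd
        have := Commute.map (h.commute_E S hg₀ hd') (MulAut.conj c).toMonoidHom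
        simpa [mul_assoc] using this
      · rw [hconj]
        exact h.block_le S hx hxS (h.conj_block hx hxp hcp hcx
          (h.bad_mem_block S hx hxS (hx.conj g₀) (mul_mem (mul_mem hg₀ hxS) (inv_mem hg₀))))
    have hge₁ : ((c * g₀ * c⁻¹) * x * (c * g₀ * c⁻¹)⁻¹) * x *
        ((c * g₀ * c⁻¹) * x * (c * g₀ * c⁻¹)⁻¹)⁻¹ = e * x := by
      rw [hconj, ← hce]
      calc c * (g₀ * x * g₀⁻¹) * c⁻¹ * x * (c * (g₀ * x * g₀⁻¹) * c⁻¹)⁻¹
          = c * ((g₀ * x * g₀⁻¹) * (c⁻¹ * x * c) * (g₀ * x * g₀⁻¹)⁻¹) * c⁻¹ := by group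
        _ = c * (e₀ * x) * c⁻¹ := by rw [hci', hge₀]
        _ = (c * e₀ * c⁻¹) * (c * x * c⁻¹) := by group
        _ = _ := by rw [hcx.eq, mul_inv_cancel_right]
    set g₁ := c * g₀ * c⁻¹ with hg₁_def
    have hk := h.inv_mul_mem_block S hx hxS hg hg₁ he hge hge₁
    have hg₁2 : g₁ * g₁ ∈ h.block x := by
      rw [hg₁_def, show c * g₀ * c⁻¹ * (c * g₀ * c⁻¹) = c * (g₀ * g₀) * c⁻¹ by group]
      exact h.conj_block hx hxp hcp hcx hg₀2
    -- the block is normalised by `S`
    have hnorm : ∀ k ∈ h.block x, g₁⁻¹ * k * g₁ ∈ h.block x := by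
      intro k hk
      have hki : g₁⁻¹ ∈ SG S := inv_mem hg₁
      have hbadc : ∀ y : G, Bad z y → y ∈ h.block x → g₁⁻¹ * y * g₁ ∈ h.block x := fun y hy hyB => by
        refine h.bad_mem_block S hx hxS ?_ (mul_mem (mul_mem hki (h.block_le S hx hxS hyB)) hg₁)
        have := hy.conj g₁⁻¹
        rwa [inv_inv] at this
      rcases h.mem_or_mul_diff S hx hxS hk with hd | hb
      · have h1 : g₁⁻¹ * k * g₁ = (g₁⁻¹ * x * g₁) * (g₁⁻¹ * (x * k) * g₁) := by
          rw [show g₁⁻¹ * x * g₁ * (g₁⁻¹ * (x * k) * g₁) = g₁⁻¹ * ((x * x) * k) * g₁ by group,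
            invol_mul_self hx.invol, one_mul]
        rw [h1]
        exact mul_mem (hbadc x hx (h.x_mem_block S hx hxS))
          (hbadc _ hd.2 (mul_mem (h.x_mem_block S hx hxS) hk))
      · exact hbadc k hb hk
    set k := g₁⁻¹ * g with hk_def
    rw [show g * g = (g₁ * g₁) * (g₁⁻¹ * k * g₁) * k by rw [hk_def]; group]
    exact mul_mem (mul_mem hg₁2 (hnorm k hk)) hk
  rcases h.mem_or_mul_diff S hx hxS (hsq g hg) with hd | hb
  · exact hd
  exfalso
  have hyp : (g * g) • base M = base M := SG_fix S (mul_mem hg hg)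
  obtain ⟨k, hk, hk'⟩ := h.mem_or_mul S hb hyp hg ((Commute.refl g).mul_right (Commute.refl g))
  refine invol_ne_one hb.invol ?_
  rcases hk' with hk' | hk'
  · calc g * g = k * k := by rw [hk']
      _ = 1 := h.eq.res.grp_sq hk
  · calc g * g = (k * (g * g)) * (k * (g * g)) := by rw [← hk']
      _ = (k * k) * ((g * g) * (g * g)) := (h.eq.commute_grp hb hyp hk).mul_mul_mul_comm _ _
      _ = 1 := by rw [h.eq.res.grp_sq hk, invol_mul_self hb.invol, one_mul]

/-- **A subgroup of index two without bad involutions.** -/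
theorem exists_index_two : ∃ U : Subgroup G, U ≤ SG S ∧ x ∉ U ∧ (∀ g ∈ SG S, g ∈ U ∨ x * g ∈ U) ∧
    ∀ y ∈ U, ¬ Bad z y := by
  classical
  have hxp := h.hxp S hx hxS
  set V := h.diff S hx hxS with hV
  have hxV : x ∉ V := fun hh => invol_ne_one hh.2.invol (invol_mul_self hx.invol)
  let cand : Set (Subgroup G) := {U | V ≤ U ∧ U ≤ SG S ∧ x ∉ U}
  obtain ⟨U, ⟨hVU, hUS, hxU⟩, hmax⟩ :=
    (Set.toFinite cand).exists_maximal ⟨V, le_rfl, fun g hg => hg.1, hxV⟩
  have hsqU : ∀ g ∈ SG S, g * g ∈ U := fun g hg => hVU (h.sq_mem_diff S hx hxS hg)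
  have hnorm : ∀ g ∈ SG S, ∀ u ∈ U, g * u * g⁻¹ ∈ U := by
    intro g hg u hu
    have hui := inv_mem hu
    have e : g * u * g⁻¹ = (g * g) * ((g⁻¹ * u) * (g⁻¹ * u)) * (u⁻¹ * u⁻¹) * u := by group
    rw [e]
    exact mul_mem (mul_mem (mul_mem (hsqU g hg) (hsqU _ (mul_mem (inv_mem hg) (hUS hu))))
      (mul_mem hui hui)) hu
  refine ⟨U, hUS, hxU, fun g hg => ?_, fun y hy hb => ?_⟩
  · by_cases hgU : g ∈ U
    · exact Or.inl hgU
    refine Or.inr ?_
    let U' : Subgroup G :=
      { carrier := {a | a ∈ U ∨ g * a ∈ U}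
        one_mem' := Or.inl (one_mem _)
        mul_mem' := by
          rintro a b (ha | ha) (hb | hb)
          · exact Or.inl (mul_mem ha hb)
          · right
            rw [show g * (a * b) = (g * a * g⁻¹) * (g * b) by group]
            exact mul_mem (hnorm g hg a ha) hb
          · right
            rw [← mul_assoc]
            exact mul_mem ha hb
          · left
            rw [show a * b = (g * g)⁻¹ * (g * (g * a) * g⁻¹) * (g * b) by group]
            exact mul_mem (mul_mem (inv_mem (hsqU g hg)) (hnorm g hg _ ha)) hb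
        inv_mem' := by
          rintro a (ha | ha)
          · exact Or.inl (inv_mem ha)
          · right
            rw [show g * a⁻¹ = (g * (g * a)⁻¹ * g⁻¹) * (g * g) by group]
            exact mul_mem (hnorm g hg _ (inv_mem ha)) (hsqU g hg) }
    have hU'S : U' ≤ SG S := by
      rintro a (ha | ha)
      · exact hUS ha
      · have := mul_mem (inv_mem hg) (hUS ha)
        rwa [inv_mul_cancel_left] at this
    have hxU' : x ∈ U' := by
      by_contra hh
      have := hmax (⟨hVU.trans fun a ha => Or.inl ha, hU'S, hh⟩ : U' ∈ cand) fun a ha => Or.inl ha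
      exact hgU (this (Or.inr (hsqU g hg) : g ∈ U'))
    rcases hxU' with h1 | h1
    · exact absurd h1 hxU
    · rw [show x * g = g⁻¹ * (g * x) * g⁻¹⁻¹ by group]
      exact hnorm g⁻¹ (inv_mem hg) _ h1
  · -- `y` is a difference, and a product of `x` with it
    have hyB := h.bad_mem_block S hx hxS hb (hUS hy)
    rcases h.mem_or_mul_diff S hx hxS (mul_mem (h.x_mem_block S hx hxS) hyB) with hd | hb'
    · -- `x y` is a difference, so `x` is in `U`
      refine hxU ?_
      have := mul_mem (hVU hd) (inv_mem hy)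
      rwa [mul_inv_cancel_right] at this
    · have hc : Commute y x := by
        have h6 := invol_mul_self hb'.invol
        calc y * x = (x * y)⁻¹ := by rw [mul_inv_rev, invol_inv hx.invol, invol_inv hb.invol]
          _ = x * y := inv_eq_of_mul_eq_one_left h6
      obtain ⟨f, hf, rfl⟩ := h.eq_mul_of_commute S hx hxS hb (hUS hy) hc
      refine hxU ?_
      have hfU : f ∈ U := hVU ⟨h.E_le S hf, by
        rw [(h.eq.commute_grp hx hxp hf).eq]; exact h.bad_translate hx hxp hf⟩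
      have := mul_mem (inv_mem hfU) hy
      rwa [inv_mul_cancel_left] at this

omit hx hxS in
/-- **The equal type with `s = q` does not occur.** -/
theorem not_bad {x : G} (hx : Bad z x) : False := by
  classical
  haveI : Fact (Nat.Prime 2) := ⟨Nat.prime_two⟩
  -- a bad involution at the base point
  obtain ⟨a, ha⟩ := exists_fix h.eq.res.crit hx.invol
  obtain ⟨g, hg⟩ := MulAction.exists_smul_eq G a (base M)
  have hx₁ : (g * x * g⁻¹) • base M = base M := by
    rw [← hg, smul_smul, inv_mul_cancel_right, mul_smul, ha]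
  obtain ⟨S⟩ : Nonempty (Sylow 2 M) := inferInstance
  obtain ⟨y, hy, hyS⟩ := h.exists_badS S (hx.conj g) hx₁
  have hyp : y • base M = base M := SG_fix S hyS
  obtain ⟨U, hUS, hyU, hcov, hno⟩ := h.exists_index_two S hy hyS
  obtain ⟨hyM, hyS'⟩ := (mem_SG S).1 hyS
  -- two members at the base point
  obtain ⟨d, hd, hdp, -⟩ := h.eq.res.crit.exists_commuting_invol hy.invol hyp
  obtain ⟨e, he, hep, hne⟩ : ∃ e, IsConj z e ∧ e • base M = base M ∧ e ≠ d := by
    by_contra hh
    push Not at hh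
    haveI : Subsingleton (DAt z (base M)) := ⟨fun a b => Subtype.ext
      ((hh a.1 a.2.1 a.2.2).trans (hh b.1 b.2.1 b.2.2).symm)⟩
    have h3 : Nat.card (DAt z (base M)) ≤ 1 := Finite.card_le_one_iff_subsingleton.2 inferInstance
    have h2 := h.eq.two_le
    rw [card_DAt] at h3
    omega
  have hde : IsConj z (d * e) := h.eq.res.mul d e hd he (h.eq.res.comm d e _ hd he hdp hep) hne.symm
  have hmem := h.eq.res.gen
  refine h.eq.res.crit.not_mem_of_relIndex hy.invol hd he (smul_base_iff.1 hdp) (smul_base_iff.1 hep) hde S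
    (U.subgroupOf M) (fun u hu => ?_) ?_ (fun u hu hc => ?_) (hmem ▸ Subgroup.mem_top y)
  · obtain ⟨hu1, hu2⟩ := (mem_SG S).1 (hUS (Subgroup.mem_subgroupOf.1 hu))
    exact hu2
  · show ((U.subgroupOf M).subgroupOf (S : Subgroup M)).index = 2
    rw [Subgroup.index_eq_two_iff']
    refine ⟨⟨⟨y, hyM⟩, hyS'⟩, fun b => ?_⟩
    simp only [Subgroup.mem_subgroupOf]
    show Xor (y * (b.1 : G) ∈ U) ((b.1 : G) ∈ U)
    have hbS : (b.1 : G) ∈ SG S := (mem_SG S).2 ⟨b.1.2, b.2⟩
    rw [xor_iff_iff_not]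
    refine ⟨fun h1 h2 => hyU ?_, fun h2 => (hcov _ hbS).resolve_left h2⟩
    have := mul_mem h1 (inv_mem h2)
    rwa [mul_inv_cancel_right] at this
  · refine hno _ (Subgroup.mem_subgroupOf.1 hu) ?_
    obtain ⟨k, hk⟩ := isConj_iff.1 hc
    exact hk ▸ hy.conj k

end CfsgLib.SECrit.Eq.SEqData
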