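import Cfsg.Agent.Lib.Invol.SECriterion.EqType.Basic
import Mathlib.GroupTheory.Sylow

/-!
# The strong embedding criterion, equal type with `s = q`: the Sylow subgroup

A Sylow two-subgroup `S` of `M` centralizes the group `E` at the point of `M`.  Then `S` has order `2 q ^ 3`,
contains `q ^ 2` bad involutions, all conjugate in `S`, each with centralizer `E ∪ E x` in `S`.
-/

set_option autoImplicit false
set_option linter.style.haveILetI false

namespace CfsgLib.SECrit.Eq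

open CfsgLib.Invol Small

variable {G : Type*} [Group G] {M : Subgroup G} {z : G}

/-- The point fixed by `M`. -/
abbrev base (M : Subgroup G) : G ⧸ M := ((1 : G) : G ⧸ M)

theorem smul_base_iff {g : G} : g • base M = base M ↔ g ∈ M := by
  rw [smul_coe_eq_iff]
  simp

variable [Finite G]

/-- The hypotheses of the case `s = q`. -/
structure SEqData (M : Subgroup G) (z : G) : Prop where
  eq : EqRes M z
  hfix : ∀ x : G, Bad z x → fix M x = deg M z + 2
  klein : NoKlein M z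
  cent : ∀ S : Sylow 2 M, ∀ s : M, s ∈ S → ∀ e : G, e = 1 ∨ (IsConj z e ∧ e • base M = base M) → Commute (s : G) e

namespace SEqData

variable (h : SEqData M z) (S : Sylow 2 M)

include h

/-- The group at the base point. -/
abbrev E : Subgroup G := h.eq.res.grp (base M)

theorem E_le_M : h.E ≤ M := fun _ he => smul_base_iff.1 (h.eq.res.grp_smul he)

theorem card_E : Nat.card h.E = deg M z + 1 := h.eq.res.card_grp _

theorem exists_card_E : ∃ n : ℕ, Nat.card h.E = 2 ^ n := by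
  haveI : Fact (Nat.Prime 2) := ⟨Nat.prime_two⟩
  exact IsPGroup.iff_card.1 (h.eq.res.isPGroup_grp _)

omit h in
/-- The Sylow subgroup inside `G`. -/
abbrev SG : Subgroup G := (S : Subgroup M).map M.subtype

omit h in
theorem mem_SG {g : G} : g ∈ SG S ↔ ∃ hg : g ∈ M, (⟨g, hg⟩ : M) ∈ S :=
  ⟨fun ⟨a, ha, e⟩ => ⟨e ▸ a.2, by
      have : (⟨g, e ▸ a.2⟩ : M) = a := Subtype.ext e.symm
      rw [this]; exact ha⟩,
    fun ⟨hg, hs⟩ => ⟨⟨g, hg⟩, hs, rfl⟩⟩

omit h in
theorem isPGroup_SG : IsPGroup 2 (SG S) := S.2.map _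

omit h in
theorem card_SG : Nat.card (SG S) = Nat.card (S : Subgroup M) :=
  (Nat.card_congr ((S : Subgroup M).equivMapOfInjective M.subtype M.subtype_injective).toEquiv).symm

omit h in
theorem SG_le : SG S ≤ M := fun g hg => (mem_SG S).1 hg |>.1

omit h in
theorem SG_fix {g : G} (hg : g ∈ SG S) : g • base M = base M := smul_base_iff.2 (SG_le S hg)

theorem commute_E {g : G} (hg : g ∈ SG S) {e : G} (he : e ∈ h.E) : Commute g e := by
  obtain ⟨hgM, hgS⟩ := (mem_SG S).1 hg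
  exact h.cent S _ hgS e he

theorem E_le : h.E ≤ SG S := by
  haveI : Fact (Nat.Prime 2) := ⟨Nat.prime_two⟩
  haveI hN : (h.E.subgroupOf M).Normal := ⟨fun a ha c => Subgroup.mem_subgroupOf.2
    (h.eq.res.grp_conj (smul_base_iff.2 c.2) (Subgroup.mem_subgroupOf.1 ha))⟩
  have hP : IsPGroup 2 (h.E.subgroupOf M) :=
    (h.eq.res.isPGroup_grp _).of_equiv (Subgroup.subgroupOfEquivOfLe h.E_le_M).symm
  have hsup : (h.E.subgroupOf M) ⊔ (S : Subgroup M) = (S : Subgroup M) :=
    S.3 (hP.to_sup_of_normal_left S.2) le_sup_right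
  intro e he
  exact (mem_SG S).2 ⟨h.E_le_M he, by
    show (⟨e, h.E_le_M he⟩ : M) ∈ (S : Subgroup M)
    rw [← hsup]
    exact Subgroup.mem_sup_left (Subgroup.mem_subgroupOf.2 he)⟩

/-- **The centralizer of a bad involution in `S`.** -/
theorem mem_or_mul {x g : G} (hx : Bad z x) (hxp : x • base M = base M) (hg : g ∈ SG S) (hgx : Commute g x) :
    ∃ e ∈ h.E, g = e ∨ g = e * x :=
  h.eq.mem_grp_or_mul h.hfix h.klein hx hxp (SG_fix S hg) hgx fun _ he => h.commute_E S hg he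

/-- An involution of `S` is in `E` or bad. -/
theorem invol_cases {g : G} (hg : g ∈ SG S) (hgo : orderOf g = 2) : g ∈ h.E ∨ Bad z g := by
  by_cases hz : IsConj z g
  · exact Or.inl (Or.inr ⟨hz, SG_fix S hg⟩)
  · exact Or.inr ⟨hgo, hz⟩

/-- An element of `S` fixing another point is trivial or a bad involution. -/
theorem fix_cases {g : G} (hg : g ∈ SG S) {a : G ⧸ M} (hap : a ≠ base M) (hga : g • a = a) :
    g = 1 ∨ Bad z g := by
  haveI : Fact (Nat.Prime 2) := ⟨Nat.prime_two⟩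
  by_cases hg1 : g = 1
  · exact Or.inl hg1
  obtain ⟨k, hk⟩ : ∃ k, orderOf g = 2 ^ k := by
    obtain ⟨k, hk⟩ := isPGroup_SG S ⟨g, hg⟩
    obtain ⟨i, -, hi⟩ := (Nat.dvd_prime_pow Nat.prime_two).1 (orderOf_dvd_of_pow_eq_one (congrArg Subtype.val hk :))
    exact ⟨i, hi⟩
  have heven : Even (orderOf g) := by
    rcases k with - | k
    · exact absurd (orderOf_eq_one_iff.1 (by rw [hk, pow_zero])) hg1
    · rw [hk]; exact Nat.even_pow.2 ⟨even_two, k.succ_ne_zero⟩
  set w := g ^ (orderOf g / 2)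
  have hwo : orderOf w = 2 := orderOf_pow_half heven
  have hwa : w • a = a :=
    Crit.forall_zpowers_fix hga w (Subgroup.pow_mem _ (Subgroup.mem_zpowers g) _)
  have hwS : w ∈ SG S := pow_mem hg _
  rcases h.invol_cases S hwS hwo with hwE | hwB
  · exact absurd (h.eq.eq_of_grp_fix hwE (invol_ne_one hwo) hwa) hap
  rcases h.eq.eq_one_or_self h.hfix h.klein hwB (SG_fix S hwS) hwa hap (SG_fix S hg) hga
    ((Commute.refl g).pow_right _) (fun _ he => h.commute_E S hg he) with h1 | h1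
  · exact absurd h1 hg1
  · exact Or.inr (h1 ▸ hwB)

/-- The bad involutions of `S`. -/
abbrev badS (z : G) (S : Sylow 2 M) : Type _ := {y : G // Bad z y ∧ y ∈ SG S}

theorem card_cent {x : G} (hx : Bad z x) (hxS : x ∈ SG S) :
    Nat.card {g : G // g ∈ SG S ∧ Commute g x} = 2 * Nat.card h.E := by
  have hxp : x • base M = base M := SG_fix S hxS
  rw [show 2 * Nat.card h.E = Nat.card (Bool × h.E) by
    rw [Nat.card_prod, Nat.card_eq_fintype_card (α := Bool), Fintype.card_bool]]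
  have hf : ∀ (b : Bool) (e : h.E), (if b then (e : G) * x else e) ∈ SG S ∧
      Commute (if b then (e : G) * x else e) x := by
    intro b e
    cases b
    · exact ⟨h.E_le S e.2, (h.eq.commute_grp hx hxp e.2).symm⟩
    · exact ⟨mul_mem (h.E_le S e.2) hxS, ((h.eq.commute_grp hx hxp e.2).symm).mul_left (Commute.refl x)⟩
  refine (Nat.card_eq_of_bijective (fun p : Bool × h.E => ⟨if p.1 then (p.2 : G) * x else p.2, hf p.1 p.2⟩)
    ⟨?_, ?_⟩).symm
  · have hxE : x ∉ h.E := fun hh => hh.elim (invol_ne_one hx.invol) fun h1 => hx.not_conj h1.1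
    rintro ⟨b, e⟩ ⟨b', e'⟩ hh
    simp only [Subtype.mk.injEq] at hh
    cases b <;> cases b' <;> simp only [Bool.false_eq_true, if_false, if_true] at hh
    · exact Prod.ext rfl (Subtype.ext hh)
    · refine absurd ?_ hxE
      rw [show x = (e' : G)⁻¹ * e by rw [hh, inv_mul_cancel_left]]
      exact mul_mem (inv_mem e'.2) e.2
    · refine absurd ?_ hxE
      rw [show x = (e : G)⁻¹ * e' by rw [← hh, inv_mul_cancel_left]]
      exact mul_mem (inv_mem e.2) e'.2
    · exact Prod.ext rfl (Subtype.ext (mul_right_cancel hh))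
  · rintro ⟨g, hg, hgx⟩
    obtain ⟨e, he, rfl | rfl⟩ := h.mem_or_mul S hx hxp hg hgx
    · exact ⟨(false, ⟨g, he⟩), rfl⟩
    · exact ⟨(true, ⟨e, he⟩), rfl⟩

/-- Bad involutions at the base point are conjugate in `M`. -/
theorem exists_conj_M {x y : G} (hx : Bad z x) (hy : Bad z y) (hxp : x • base M = base M)
    (hyp : y • base M = base M) : ∃ k ∈ M, k * x * k⁻¹ = y := by
  obtain ⟨g, rfl⟩ := isConj_iff.1 (h.eq.isConj_bad h.hfix h.klein hx hy)
  have hxb : x • (g⁻¹ • base M) = g⁻¹ • base M := by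
    have := congrArg (g⁻¹ • ·) hyp
    simpa [smul_smul, mul_assoc] using this
  by_cases hb : g⁻¹ • base M = base M
  · exact ⟨g, smul_base_iff.1 (inv_smul_eq_iff.1 hb).symm, rfl⟩
  obtain ⟨c, -, hc, hxc⟩ := h.eq.res.crit.exists_commuting_swap (Crit.isPGroup_zpowers_invol hx.invol) (Ne.symm hb)
    (Crit.forall_zpowers_fix hxp) (Crit.forall_zpowers_fix hxb)
  refine ⟨g * c, smul_base_iff.1 (by rw [mul_smul, hc, smul_inv_smul]), ?_⟩
  have := hxc x (Subgroup.mem_zpowers x)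
  rw [show g * c * x * (g * c)⁻¹ = g * (c * x * c⁻¹) * g⁻¹ by group, ← this.eq, mul_inv_cancel_right]

/-- A bad involution of `S`. -/
theorem exists_badS {x : G} (hx : Bad z x) (hxp : x • base M = base M) : ∃ y : G, Bad z y ∧ y ∈ SG S := by
  haveI : Fact (Nat.Prime 2) := ⟨Nat.prime_two⟩
  have hxM : x ∈ M := smul_base_iff.1 hxp
  have hP : IsPGroup 2 (Subgroup.zpowers (⟨x, hxM⟩ : M)) :=
    Crit.isPGroup_zpowers_invol (by rw [← Subgroup.orderOf_coe]; exact hx.invol)
  obtain ⟨T, hT⟩ := hP.exists_le_sylow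
  obtain ⟨c, rfl⟩ := MulAction.exists_smul_eq M T S
  refine ⟨c * x * (c : G)⁻¹, hx.conj c, (mem_SG _).2 ⟨mul_mem (mul_mem c.2 hxM) (inv_mem c.2), ?_⟩⟩
  show (⟨c * x * (c : G)⁻¹, _⟩ : M) ∈ ((c • T : Sylow 2 M) : Subgroup M)
  rw [Sylow.coe_subgroup_smul, Subgroup.mem_smul_pointwise_iff_exists]
  exact ⟨⟨x, hxM⟩, hT (Subgroup.mem_zpowers _), rfl⟩

/-- **Parity.**  `|Y ∩ S| 2 q` is an odd multiple of `|S|`. -/
theorem card_badS {x : G} (hx : Bad z x) (hxS : x ∈ SG S) :
    ∃ o : ℕ, Odd o ∧ Nat.card (badS z S) * (2 * Nat.card h.E) = Nat.card (SG S) * o := by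
  classical
  haveI : Fact (Nat.Prime 2) := ⟨Nat.prime_two⟩
  obtain ⟨hxM, hxS'⟩ := (mem_SG S).1 hxS
  set xM : M := ⟨x, hxM⟩
  set C := Subgroup.centralizer ({xM} : Set M)
  set T := {k : M // k * xM * k⁻¹ ∈ S}
  -- by the conjugates
  have e1 : Nat.card T = Nat.card (badS z S) * Nat.card C := by
    letI := Fintype.ofFinite (badS z S)
    have hk : ∀ y : badS z S, ∃ k : M, (k : G) * x * (k : G)⁻¹ = y.1 := fun y => by
      obtain ⟨k, hk, hky⟩ := h.exists_conj_M hx y.2.1 (SG_fix S hxS) (SG_fix S y.2.2)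
      exact ⟨⟨k, hk⟩, hky⟩
    choose k hk using hk
    rw [← Nat.card_prod]
    refine (Nat.card_eq_of_bijective (fun p : badS z S × C => (⟨k p.1 * p.2.1, ?_⟩ : T)) ⟨?_, ?_⟩).symm
    · have hc := Subgroup.mem_centralizer_singleton_iff.1 p.2.2
      rw [show k p.1 * p.2.1 * xM * (k p.1 * p.2.1)⁻¹ = k p.1 * (p.2.1 * xM * p.2.1⁻¹) * (k p.1)⁻¹ by group,
        hc, mul_inv_cancel_right]
      have : k p.1 * xM * (k p.1)⁻¹ = ⟨p.1.1, SG_le S p.1.2.2⟩ := Subtype.ext (hk p.1)
      rw [this]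
      exact ((mem_SG S).1 p.1.2.2).2
    · rintro ⟨y, c⟩ ⟨y', c'⟩ hh
      have h1 : k y * c.1 = k y' * c'.1 := congrArg (Subtype.val : T → M) hh
      have hy : ∀ (y : badS z S) (c : C), k y * c.1 * xM * (k y * c.1)⁻¹ = ⟨y.1, SG_le S y.2.2⟩ := fun y c => by
        rw [show k y * c.1 * xM * (k y * c.1)⁻¹ = k y * (c.1 * xM * c.1⁻¹) * (k y)⁻¹ by group,
          Subgroup.mem_centralizer_singleton_iff.1 c.2, mul_inv_cancel_right]
        exact Subtype.ext (hk y)
      obtain rfl : y = y' := Subtype.ext (congrArg (Subtype.val : M → G)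
        ((hy y c).symm.trans (h1 ▸ hy y' c')))
      exact Prod.ext rfl (Subtype.ext (mul_left_cancel h1))
    · rintro ⟨j, hj⟩
      set y : badS z S := ⟨((j * xM * j⁻¹ : M) : G), hx.conj (j : G), (mem_SG S).2 ⟨_, hj⟩⟩
      refine ⟨(y, ⟨(k y)⁻¹ * j, Subgroup.mem_centralizer_singleton_iff.2 ?_⟩), Subtype.ext ?_⟩
      · have h2 : k y * xM * (k y)⁻¹ = j * xM * j⁻¹ := Subtype.ext (hk y)
        rw [mul_assoc]
        calc (k y)⁻¹ * (j * xM) = (k y)⁻¹ * (j * xM * j⁻¹) * j := by group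
          _ = (k y)⁻¹ * (k y * xM * (k y)⁻¹) * j := by rw [h2]
          _ = xM * ((k y)⁻¹ * j) := by group
      · exact mul_inv_cancel_left _ _
  -- by the fixed cosets
  have e2 : Nat.card T = Nat.card (S : Subgroup M) * Nat.card {q : M ⧸ (S : Subgroup M) // xM • q = q} := by
    rw [← Nat.card_prod]
    refine (Nat.card_congr ?_).trans
      (Nat.card_congr (QuotientGroup.preimageMkEquivSubgroupProdSet _ {q : M ⧸ (S : Subgroup M) | xM • q = q}))
    refine (Equiv.inv M).subtypeEquiv fun j => ?_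
    show j * xM * j⁻¹ ∈ S ↔ xM • ((j⁻¹ : M) : M ⧸ (S : Subgroup M)) = ((j⁻¹ : M) : M ⧸ (S : Subgroup M))
    rw [smul_coe_eq_iff, inv_inv]
    rfl
  have hodd : Odd (Nat.card {q : M ⧸ (S : Subgroup M) // xM • q = q}) := by
    have hmod := (Crit.isPGroup_zpowers_invol (x := xM) (by rw [← Subgroup.orderOf_coe]; exact hx.invol)
      ).card_modEq_card_fixedPoints (M ⧸ (S : Subgroup M))
    have e : Nat.card {q : M ⧸ (S : Subgroup M) // xM • q = q} =
        Nat.card (MulAction.fixedPoints (Subgroup.zpowers xM) (M ⧸ (S : Subgroup M))) :=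
      Nat.card_congr (Equiv.subtypeEquivRight fun a =>
        ⟨fun ha g => Crit.forall_zpowers_fix ha g g.2, fun ha => ha ⟨xM, Subgroup.mem_zpowers xM⟩⟩)
    rw [e, Nat.odd_iff, ← hmod, ← Nat.odd_iff]
    exact Nat.not_even_iff_odd.1 fun hh => S.not_dvd_index (even_iff_two_dvd.1 hh)
  -- the order of the centralizer
  obtain ⟨c, hc, hcC⟩ : ∃ c : ℕ, Odd c ∧ Nat.card C = 2 * Nat.card h.E * c := by
    obtain ⟨T₀, hT₀⟩ : ∃ T₀ : Sylow 2 C, True := ⟨default, trivial⟩
    have hP : IsPGroup 2 ((T₀ : Subgroup C).map C.subtype) := T₀.2.map _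
    obtain ⟨R, hR⟩ := hP.exists_le_sylow
    have hle : Nat.card T₀ ≤ 2 * Nat.card h.E := by
      have hcard := h.card_cent R hx ((mem_SG R).2 ⟨hxM, ?_⟩)
      · rw [← hcard]
        refine Nat.card_le_card_of_injective (fun t => ⟨(t.1.1 : G), (mem_SG R).2 ⟨t.1.1.2,
          hR ⟨t.1, t.2, rfl⟩⟩, congrArg Subtype.val (Subgroup.mem_centralizer_singleton_iff.1 t.1.2)⟩) ?_
        intro a b hab
        exact Subtype.ext (Subtype.ext (Subtype.ext (congrArg (fun w : {g : G // g ∈ SG R ∧ Commute g x} => w.1) hab)))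
      · -- `x` is central in its centralizer
        have hxC : (xM : M) ∈ C := Subgroup.mem_centralizer_singleton_iff.2 rfl
        haveI : (Subgroup.zpowers (⟨xM, hxC⟩ : C)).Normal := ⟨fun a ha g => by
          obtain ⟨i, rfl⟩ := Subgroup.mem_zpowers_iff.1 ha
          have hg : Commute g (⟨xM, hxC⟩ : C) :=
            Subtype.ext (Subgroup.mem_centralizer_singleton_iff.1 g.2)
          rw [(hg.zpow_right i).eq, mul_inv_cancel_right]
          exact Subgroup.zpow_mem_zpowers _ _⟩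
        have hsup : Subgroup.zpowers (⟨xM, hxC⟩ : C) ⊔ (T₀ : Subgroup C) = (T₀ : Subgroup C) :=
          T₀.3 ((Crit.isPGroup_zpowers_invol (by rw [← Subgroup.orderOf_coe, ← Subgroup.orderOf_coe]; exact hx.invol)
            ).to_sup_of_normal_left T₀.2) le_sup_right
        exact hR ⟨⟨xM, hxC⟩, (hsup ▸ Subgroup.mem_sup_left (Subgroup.mem_zpowers _) :
          (⟨xM, hxC⟩ : C) ∈ (T₀ : Subgroup C)), rfl⟩
    obtain ⟨a, ha⟩ := IsPGroup.iff_card.1 T₀.2
    obtain ⟨n, hn⟩ := h.exists_card_E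
    have hdvd : 2 * Nat.card h.E ∣ Nat.card C := by
      let f : {g : G // g ∈ SG S ∧ Commute g x} → C := fun g =>
        ⟨⟨g.1, SG_le S g.2.1⟩, Subgroup.mem_centralizer_singleton_iff.2 (Subtype.ext g.2.2.eq)⟩
      let K : Subgroup C := ((S : Subgroup M).subgroupOf C)
      have hK : Nat.card K = 2 * Nat.card h.E := by
        rw [← h.card_cent S hx hxS]
        exact Nat.card_congr
          { toFun := fun g => ⟨(g.1.1 : G), (mem_SG S).2 ⟨g.1.1.2, g.2⟩,
              congrArg Subtype.val (Subgroup.mem_centralizer_singleton_iff.1 g.1.2)⟩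
            invFun := fun g => ⟨f g, ((mem_SG S).1 g.2.1).2⟩
            left_inv := fun g => rfl
            right_inv := fun g => rfl }
      exact hK ▸ K.card_subgroup_dvd_card
    have hTdvd : 2 ^ (n + 1) ∣ Nat.card T₀ := by
      rw [T₀.card_eq_multiplicity]
      exact pow_dvd_pow 2 ((Nat.Prime.pow_dvd_iff_le_factorization Nat.prime_two Nat.card_pos.ne').1
        (by rw [pow_succ', ← hn]; exact hdvd))
    have hTeq : Nat.card T₀ = 2 * Nat.card h.E := le_antisymm hle (by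
      rw [hn, ← pow_succ']; exact Nat.le_of_dvd Nat.card_pos hTdvd)
    refine ⟨(T₀ : Subgroup C).index, Nat.not_even_iff_odd.1 fun hh => T₀.not_dvd_index (even_iff_two_dvd.1 hh), ?_⟩
    rw [← hTeq, Subgroup.card_mul_index]
  -- compare
  obtain ⟨a, ha⟩ := IsPGroup.iff_card.1 S.2
  have hkey : Nat.card (badS z S) * (2 * Nat.card h.E) * c =
      2 ^ a * Nat.card {q : M ⧸ (S : Subgroup M) // xM • q = q} := by
    rw [← ha, ← e2, e1, hcC, mul_assoc]
  have hd : 2 ^ a ∣ Nat.card (badS z S) * (2 * Nat.card h.E) :=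
    (Nat.Coprime.pow_left a (by rw [Nat.coprime_comm, Nat.Coprime, ← Nat.coprime_iff_gcd_eq_one]
                                exact (Nat.coprime_two_right.2 hc))).dvd_of_dvd_mul_right (Dvd.intro _ hkey.symm)
  obtain ⟨o, ho⟩ := hd
  refine ⟨o, ?_, by rw [card_SG, ha, ho]⟩
  rw [ho, mul_assoc] at hkey
  exact (Nat.odd_mul.1 ((Nat.eq_of_mul_eq_mul_left (pow_pos two_pos a) hkey) ▸ hodd)).1

/-- **The orbit count.** -/
theorem card_SG_eq {x : G} (hx : Bad z x) (hxS : x ∈ SG S) :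
    Nat.card (SG S) = 2 * Nat.card h.E ^ 3 ∧ Nat.card (badS z S) = Nat.card h.E ^ 2 := by
  classical
  haveI : Fact (Nat.Prime 2) := ⟨Nat.prime_two⟩
  obtain ⟨o, ho, hbad⟩ := h.card_badS S hx hxS
  set P := base M
  letI : MulAction (SG S) {a : G ⧸ M // a ≠ P} :=
    { smul := fun g a => ⟨(g : G) • a.1, fun hh => a.2 (smul_left_cancel (g : G) (hh.trans (SG_fix S g.2).symm))⟩
      one_smul := fun a => Subtype.ext (one_smul G a.1)
      mul_smul := fun g k a => Subtype.ext (mul_smul (g : G) (k : G) a.1) }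
  -- covered points
  let Cov : SubMulAction (SG S) {a : G ⧸ M // a ≠ P} :=
    { carrier := {a | ∃ y : badS z S, y.1 • a.1 = a.1}
      smul_mem' := fun g a ⟨y, hy⟩ => ⟨⟨g * y.1 * (g : G)⁻¹, y.2.1.conj g,
        mul_mem (mul_mem g.2 y.2.2) (inv_mem g.2)⟩, by
        show ((g : G) * y.1 * (g : G)⁻¹) • (g : G) • a.1 = (g : G) • a.1
        rw [smul_smul, inv_mul_cancel_right, mul_smul, hy]⟩ }
  let Unc : SubMulAction (SG S) {a : G ⧸ M // a ≠ P} :=
    { carrier := {a | ¬ a ∈ Cov}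
      smul_mem' := fun g a ha hga => ha (by simpa using Cov.smul_mem g⁻¹ hga) }
  have hq1 : Nat.card h.E = deg M z + 1 := h.card_E
  have hone : ∀ y : badS z S, Nat.card {a : {a : G ⧸ M // a ≠ P} // y.1 • a.1 = a.1} = Nat.card h.E := by
    intro y
    have h1 : Nat.card {a : G ⧸ M // y.1 • a = a ∧ a ≠ P} + 1 = fix M y.1 := by
      rw [fix, ← Finite.card_option, ← Nat.card_congr (Equiv.optionSubtypeNe
        (⟨P, SG_fix S y.2.2⟩ : {c : G ⧸ M // y.1 • c = c}))]
      exact Nat.card_congr (Equiv.optionCongr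
        ⟨fun c => ⟨⟨c.1, c.2.1⟩, fun hh => c.2.2 (congrArg Subtype.val hh)⟩,
          fun c => ⟨c.1.1, c.1.2, fun hh => c.2 (Subtype.ext hh)⟩, fun _ => rfl, fun _ => rfl⟩)
    have h2 : Nat.card {a : {a : G ⧸ M // a ≠ P} // y.1 • a.1 = a.1} =
        Nat.card {a : G ⧸ M // y.1 • a = a ∧ a ≠ P} :=
      Nat.card_congr ⟨fun a => ⟨a.1.1, a.2, a.1.2⟩, fun a => ⟨⟨a.1, a.2.2⟩, a.2.1⟩, fun _ => rfl, fun _ => rfl⟩
    have := h.hfix y.1 y.2.1
    omega
  have hcov : Nat.card Cov = Nat.card (badS z S) * Nat.card h.E := by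
    letI := Fintype.ofFinite (badS z S)
    have h1 : Nat.card (Σ y : badS z S, {a : {a : G ⧸ M // a ≠ P} // y.1 • a.1 = a.1}) = Nat.card Cov := by
      refine Nat.card_eq_of_bijective (fun s => ⟨s.2.1, s.1, s.2.2⟩) ⟨?_, fun a => ?_⟩
      · rintro ⟨y, a, hy⟩ ⟨y', a', hy'⟩ hh
        obtain rfl : a = a' := congrArg Subtype.val hh
        suffices y = y' by subst this; rfl
        rcases h.fix_cases S (mul_mem y'.2.2 y.2.2) a.2 (by rw [mul_smul, hy, hy']) with h2 | h2
        · exact Subtype.ext ((invol_inv y.2.1.invol).symm.trans (inv_eq_of_mul_eq_one_left h2))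
        · have hcm : Commute y'.1 y.1 := by
            have h3 := invol_mul_self h2.invol
            calc y'.1 * y.1 = (y'.1 * y.1)⁻¹ := (inv_eq_of_mul_eq_one_left h3).symm
              _ = y.1 * y'.1 := by rw [mul_inv_rev, invol_inv y.2.1.invol, invol_inv y'.2.1.invol]
          exact Subtype.ext (h.klein y'.1 y.1 P a.1 y'.2.1 y.2.1 hcm (Ne.symm a.2) (SG_fix S y'.2.2) hy'
            (SG_fix S y.2.2) hy).symm
      · obtain ⟨a, y, hy⟩ := a
        exact ⟨⟨y, a, hy⟩, rfl⟩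
    rw [← h1, Nat.card_sigma, Finset.sum_congr rfl (fun y _ => hone y), Finset.sum_const, smul_eq_mul,
      Finset.card_univ, ← Nat.card_eq_fintype_card]
  have hfree : Nat.card (SG S) ∣ Nat.card Unc := by
    have hst : ∀ a : Unc, MulAction.stabilizer (SG S) a = ⊥ := by
      intro a
      rw [eq_bot_iff]
      intro g hg
      rw [Subgroup.mem_bot]
      rcases h.fix_cases S g.2 a.1.2 (congrArg (fun t : Unc => t.1.1) hg) with h1 | h1
      · exact Subtype.ext h1
      · exact absurd ⟨⟨g.1, h1, g.2⟩, congrArg (fun t : Unc => t.1.1) hg⟩ a.2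
    rw [Nat.card_congr (MulAction.selfEquivOrbitsQuotientProd hst), Nat.card_prod]
    exact dvd_mul_left _ _
  have hsum : Nat.card Cov + Nat.card Unc + 1 = Nat.card (G ⧸ M) := by
    have h1 : Nat.card Cov + Nat.card Unc = Nat.card {a : G ⧸ M // a ≠ P} := by
      rw [← Nat.card_sum]
      exact Nat.card_congr (Equiv.sumCompl fun a : {a : G ⧸ M // a ≠ P} => a ∈ Cov)
    rw [h1, ← Finite.card_option]
    exact Nat.card_congr (Equiv.optionSubtypeNe P)
  have hN := h.eq.card_points hx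
  rw [h.hfix x hx] at hN
  obtain ⟨j, hj⟩ := hfree
  set q := Nat.card h.E with hq
  have hkey : q ^ 3 * 2 = Nat.card (SG S) * (o + 2 * j) := by
    have h3 : Nat.card Cov + Nat.card Unc = q ^ 3 := by
      have h4 : deg M z + 2 + (deg M z + 2) * deg M z * (deg M z + 2 - 1) = q ^ 3 + 1 := by
        rw [hq1, show deg M z + 2 - 1 = deg M z + 1 by omega]; ring
      omega
    rw [hcov, hj] at h3
    calc q ^ 3 * 2 = (Nat.card (badS z S) * q + Nat.card (SG S) * j) * 2 := by rw [h3]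
      _ = Nat.card (badS z S) * (2 * q) + Nat.card (SG S) * (2 * j) := by ring
      _ = _ := by rw [hbad]; ring
  obtain ⟨n, hn⟩ := h.exists_card_E
  obtain ⟨a, ha⟩ := IsPGroup.iff_card.1 (isPGroup_SG S)
  have hone' : o + 2 * j = 1 := by
    obtain ⟨i, hi⟩ := ho
    have hdvd : o + 2 * j ∣ 2 ^ (3 * n + 1) := by
      refine ⟨Nat.card (SG S), ?_⟩
      rw [pow_succ, mul_comm 3 n, pow_mul, ← hn, ← hq, hkey, mul_comm]
    obtain ⟨b, -, hb⟩ := (Nat.dvd_prime_pow Nat.prime_two).1 hdvd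
    rcases b with - | b
    · simpa using hb
    · exfalso; rw [hi, pow_succ'] at hb; omega
  have hSG : Nat.card (SG S) = 2 * q ^ 3 := by rw [hone', mul_one] at hkey; omega
  refine ⟨hSG, ?_⟩
  rw [hSG, show o = 1 by omega, mul_one] at hbad
  exact Nat.eq_of_mul_eq_mul_right (Nat.mul_pos two_pos (hq ▸ Nat.card_pos) : 0 < 2 * q) (by rw [hbad]; ring)

end SEqData

end CfsgLib.SECrit.Eq
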